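import Cfsg.Agent.R2.Spec.X1.TRa.Num
import Cfsg.Agent.R2.Spec.X1.TI.Sit
import Cfsg.Agent.H182.CentOrth
import Cfsg.Agent.S0293
import Cfsg.Agent.S0294

/-!
# `³D₄(q)`, row `PΩ^±(2m, u)` (helper156, statement S3478, task 1849)

`row_omega_plus`, `row_omega_minus` : the groups `PΩ⁺(2m, u)`, `PΩ⁻(2m, u)`, `m ≥ 4`, are not in the situation `Sit p q`.
-/

set_option autoImplicit false
set_option linter.unusedSectionVars false
set_option linter.style.haveILetI false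

namespace Cfsg.Agent.R2.Spec.X1.TRa

open Module QuadraticMap
open Cfsg.Agent.LieClassical.OrthCore Cfsg.Agent.LieClassical.OrthForms
open Cfsg.Agent.H182.Sign Cfsg.Agent.H182.Orth Cfsg.Agent.H182.Cent
open Cfsg.Agent.H94.PG Cfsg.Agent.R2.Spec.X1.TI Cfsg.Agent.R2.Spec.X1.TD

section

variable {ι : Type} [Fintype ι] [DecidableEq ι] {F : Type*} [Field F]

/-- **The transfer lemma**, for elements with a power `-1`. -/
theorem exists_of_elt [Finite F] {Q : QuadraticForm F (ι → F)} {m : ℕ} {ε : ℤ} (hQ : Sg Q m ε) (hm : 3 ≤ m) {N : ℕ}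
    (h : Elt F m ε N) : ∃ s : Cfsg.POmega F ⇑Q, N / N.gcd 4 ∣ orderOf s := by
  obtain ⟨hN, d, P, g, hs, hg, ho⟩ := h
  obtain ⟨e, he⟩ := hs.exists_equiv hQ
  obtain ⟨h, hho, hpow⟩ := exists_isometry Q e he g hg hN ho
  have hcard : Fintype.card ι = 2 * m := by
    rw [← Module.finrank_fintype_fun_eq_card F, hQ.dim]
  have hnd : (polarBilin Q).Nondegenerate := nondegenerate_iff_nondeg.2 hQ.nondeg
  have hsing : ∃ u : ι → F, u ≠ 0 ∧ Q u = 0 := by
    obtain ⟨w, hw0, hw, -⟩ := Cfsg.Agent.LieClassical.OrthFinite.exists_sing_perp (Q := Q) (n := 0) ![] (by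
      rw [hQ.dim]; omega)
    exact ⟨w, hw0, hw⟩
  have hfin : Finite (Cfsg.isometryGroup F ⇑Q) := inferInstance
  let t : Cfsg.Omega F ⇑Q := ⟨h ^ 2, sq_mem_Omega Q hnd (by omega) h⟩
  let s : Cfsg.POmega F ⇑Q := QuotientGroup.mk t
  have hs2 : ∀ k : ℕ, s ^ k = 1 → (h ^ 4) ^ k = 1 := by
    intro k hk
    have h1 : t ^ k ∈ Subgroup.center (Cfsg.Omega F ⇑Q) := by
      rw [← QuotientGroup.eq_one_iff]
      exact hk
    rw [Cfsg.Agent.LieClassical.OrthCenter.mem_center_omega_iff hnd (by omega) hsing] at h1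
    have h2 : ((t ^ k : Cfsg.Omega F ⇑Q) : Cfsg.isometryGroup F ⇑Q) = h ^ (2 * k) := by
      rw [pow_mul]
      rfl
    rw [h2] at h1
    have h3 : (h ^ 4) ^ k = (h ^ (2 * k)) ^ 2 := by
      rw [← pow_mul, ← pow_mul]
      congr 1
      ring
    rw [h3, pow_two]
    apply Subtype.ext
    apply Units.ext
    rw [Subgroup.coe_mul, Units.val_mul]
    rcases h1 with h1 | h1
    · rw [h1, mul_one]
      rfl
    · rw [h1, neg_mul_neg, mul_one]
      rfl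
  have hord : orderOf (h ^ 4) ∣ orderOf s := orderOf_dvd_of_pow_eq_one (hs2 _ (pow_orderOf_eq_one s))
  have hord2 : orderOf (h ^ 4) = N / N.gcd 4 := by rw [orderOf_pow' h (by norm_num), hho]
  rw [hord2] at hord
  exact ⟨s, hord⟩

end

theorem ord_of_dvd {p q : ℕ} {S : Type*} [Group S] [Finite S] (h : Sit p q S) {x : S} {a : ℕ} (ha : a ∣ orderOf x) :
    Om p q a := by
  have h0 : orderOf x ≠ 0 := (orderOf_pos x).ne'
  obtain ⟨b, hb⟩ := ha
  have hb0 : b ≠ 0 := by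
    rintro rfl
    rw [mul_zero] at hb
    exact h0 hb
  refine h.ord ⟨x ^ b, ?_⟩
  rw [orderOf_pow_of_dvd hb0 (hb ▸ Dvd.intro_left _ rfl), hb]
  exact Nat.mul_div_cancel _ (Nat.pos_of_ne_zero hb0)

section

variable {F : Type*} [Field F] [Finite F] {ι : Type} [Fintype ι] [DecidableEq ι]
  {Q : QuadraticForm F (ι → F)} {m : ℕ} {ε₀ : ℤ} {p q : ℕ}

/-- elements acting trivially on a subspace of dimension `2 (m - i)` -/
theorem exists_small (hQ : Sg Q m ε₀) (hm : 4 ≤ m) {i : ℕ} (him : i < m) {ε : ℤ} (hε : ε = 1 ∨ ε = -1)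
    {N : ℕ} (h : Elt F i ε N) : ∃ s : Cfsg.POmega F ⇑Q, N / N.gcd 2 ∣ orderOf s := by
  have h1 : EltP F (m - i) (ε * ε₀) 1 :=
    (elt_one (by omega) (Cfsg.Agent.H182.Orth.sign_mul hε hQ.eps)).odd odd_one (by omega)
  have h2 := h1.prod h
  rw [mul_comm (ε * ε₀) ε, Cfsg.Agent.H182.Orth.sign_cancel hε, Nat.lcm_one_left, Nat.sub_add_cancel him.le] at h2
  exact exists_of_eltP hQ (by omega) h2

theorem two_not (h : Sit p q (Cfsg.POmega F ⇑Q)) {s : ℕ} (hsn : s ∣ R2.Spec.X1.TD.mm q) : ¬ Adj (Cfsg.POmega F ⇑Q) s 2 := by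
  intro ha
  have h1 := h.adj_dvd hsn ha
  have := Nat.odd_iff.1 (mm_odd h.par)
  omega

theorem ne_two' (h : Sit p q (Cfsg.POmega F ⇑Q)) {s : ℕ} (hsn : s ∣ R2.Spec.X1.TD.mm q) : s ≠ 2 := by
  rintro rfl
  have := Nat.odd_iff.1 (mm_odd h.par)
  omega

theorem char_ne (hQ : Sg Q m ε₀) (hm : 4 ≤ m) (h : Sit p q (Cfsg.POmega F ⇑Q)) {s : ℕ} (hs : s.Prime)
    (hsn : s ∣ R2.Spec.X1.TD.mm q) : (s : F) ≠ 0 := fun h0 =>
  two_not h hsn (adj_two_of_char hQ hm hs (ne_two' h hsn) h0)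

theorem pow_ne (hQ : Sg Q m ε₀) (hm : 4 ≤ m) (h : Sit p q (Cfsg.POmega F ⇑Q)) {s : ℕ} (hs : s.Prime)
    (hsn : s ∣ R2.Spec.X1.TD.mm q) {i : ℕ} (hi1 : 1 ≤ i) (hi : i + 2 ≤ m) : ¬ s ∣ Nat.card F ^ (2 * i) - 1 := fun h0 =>
  two_not h hsn (adj_two_of_dvd hQ hm hi1 hi hs (ne_two' h hsn) h0)

/-- divisors of `u ^ (2 m) - 1` and `u ^ (2 (m - 1)) - 1` -/
theorem dvd_two {u m s : ℕ} (hm : 1 ≤ m) (h1 : s ∣ u ^ (2 * m) - 1) (h2 : s ∣ u ^ (2 * (m - 1)) - 1) :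
    s ∣ u ^ (2 * 1) - 1 := by
  have h3 : s ∣ u ^ (Nat.gcd (2 * m) (2 * (m - 1))) - 1 := by
    have h4 := Nat.dvd_gcd h1 h2
    rwa [Nat.pow_sub_one_gcd_pow_sub_one] at h4
  have h5 : Nat.gcd (2 * m) (2 * (m - 1)) = 2 * 1 := by
    rw [Nat.gcd_mul_left]
    congr 1
    obtain ⟨j, rfl⟩ : ∃ j, m = j + 1 := ⟨m - 1, by omega⟩
    rw [Nat.add_sub_cancel]
    simp
  rwa [h5] at h3

/-- The dimension of the moved space of an isometry of order `s`. -/
theorem finrank_cases (hQ : Sg Q m ε₀) (hm : 4 ≤ m) (h : Sit p q (Cfsg.POmega F ⇑Q)) {s : ℕ} (hs : s.Prime)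
    (hsn : s ∣ R2.Spec.X1.TD.mm q) {g : Cfsg.Omega F ⇑Q} (hg : g ^ s = 1) (hg1 : g ≠ 1) :
    (finrank F (fixS (rho (⇑Q) g)) = 0 ∧ s ∣ Nat.card F ^ (2 * m) - 1) ∨
      (finrank F (fixS (rho (⇑Q) g)) = 2 ∧ s ∣ Nat.card F ^ (2 * (m - 1)) - 1) := by
  have hs2 := ne_two' h hsn
  have hX := (rowData_orth hQ hm).isoP hs hs2 (char_ne hQ hm h hs hsn) hg hg1
  obtain ⟨k, hk⟩ := even_block Q (rho_polar Q g) (hs.odd_of_ne_two hs2) hX.pow hX.invY hX.nonDegY
    (fun z hz => hX.fixY hz)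
  have hdvd := dvd_pow_sub_one hs hX.pow hX.invY (fun z hz => hX.fixY hz)
  have hadd := hX.finrank_add
  rw [hQ.dim] at hadd
  rw [show finrank F (IsoP.Y (sform_polar Q) (rho (⇑Q) g)) = 2 * k by omega] at hdvd hadd
  have hk0 : k ≠ 0 := by
    rintro rfl
    exact hX.Y_ne_bot (Submodule.finrank_eq_zero.1 (by omega))
  have hkm : m < k + 2 := by
    by_contra hcon
    exact pow_ne hQ hm h hs hsn (i := k) (by omega) (by omega) hdvd
  rcases Nat.lt_or_ge k m with h1 | h1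
  · right
    have : k = m - 1 := by omega
    subst this
    exact ⟨by omega, hdvd⟩
  · left
    have : k = m := by omega
    subst this
    exact ⟨by omega, hdvd⟩

/-- **One kind only.** -/
theorem one_kind (hQ : Sg Q m ε₀) (hm : 4 ≤ m) (h : Sit p q (Cfsg.POmega F ⇑Q)) {s s' : ℕ} (hs : s.Prime)
    (hs' : s'.Prime) (hsn : s ∣ R2.Spec.X1.TD.mm q) (hsn' : s' ∣ R2.Spec.X1.TD.mm q) (h1 : s ∣ Nat.card F ^ (2 * m) - 1)
    (h2 : s' ∣ Nat.card F ^ (2 * (m - 1)) - 1) : False := by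
  have hR := rowData_orth hQ hm
  obtain ⟨x, hx⟩ := h.mm
  have hx0 : orderOf x ≠ 0 := (orderOf_pos x).ne'
  have ho : orderOf (x ^ (orderOf x / s)) = s := orderOf_pow_orderOf_div hx0 (by rw [hx]; exact hsn)
  have ho' : orderOf (x ^ (orderOf x / s')) = s' := orderOf_pow_orderOf_div hx0 (by rw [hx]; exact hsn')
  have hs2 := ne_two' h hsn
  have hs2' := ne_two' h hsn'
  obtain ⟨a, hax, ha⟩ := exists_lift hR.center_sq hs hs2 _ (by rw [← ho]; exact pow_orderOf_eq_one _)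
  obtain ⟨b, hbx, hb⟩ := exists_lift hR.center_sq hs' hs2' _ (by rw [← ho']; exact pow_orderOf_eq_one _)
  have ha1 : a ≠ 1 := by
    rintro rfl
    rw [← hax, QuotientGroup.mk_one, orderOf_one] at ho
    exact hs.one_lt.ne ho
  have hb1 : b ≠ 1 := by
    rintro rfl
    rw [← hbx, QuotientGroup.mk_one, orderOf_one] at ho'
    exact hs'.one_lt.ne ho'
  have hcq : Commute (a : Cfsg.POmega F ⇑Q) (b : Cfsg.POmega F ⇑Q) := by
    rw [hax, hbx]
    exact (Commute.refl x).pow_pow _ _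
  -- `b` commutes with the image of `a`
  have hab : Commute a b := by
    have h3 : ∀ c : Cfsg.Omega F ⇑Q, Commute (c : Cfsg.POmega F ⇑Q) (b : Cfsg.POmega F ⇑Q) → Commute c b :=
      fun c hc => commute_lift hR.center_sq hs' hs2' hb hc
    exact h3 a hcq
  rcases finrank_cases hQ hm h hs hsn ha ha1 with ⟨h3, -⟩ | ⟨-, h3⟩
  · rcases finrank_cases hQ hm h hs' hsn' hb hb1 with ⟨-, h4⟩ | ⟨h4, -⟩
    · exact pow_ne hQ hm h hs' hsn' le_rfl (by omega) (dvd_two (by omega) h4 h2)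
    · have hX := hR.isoP hs hs2 (char_ne hQ hm h hs hsn) ha ha1
      have hcom : Commute (rho (⇑Q) b - 1) (rho (⇑Q) a) :=
        ((hab.symm.map (rho (⇑Q))).sub_left (Commute.one_left _))
      have h5 := dvd_pow_sub_one (F := F) hs hX.pow (Z := fixS (rho (⇑Q) b)) (inv_ker hcom) (fun z _ hz => by
        have h6 : z ∈ fixS (rho (⇑Q) a) := mem_fixS.2 hz
        rw [Submodule.finrank_eq_zero.1 h3] at h6
        exact (Submodule.mem_bot F).1 h6)
      rw [h4] at h5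
      exact pow_ne hQ hm h hs hsn (i := 1) le_rfl (by omega) (by simpa using h5)
  · exact pow_ne hQ hm h hs hsn le_rfl (by omega) (dvd_two (by omega) h1 h3)

/-- **The row.** -/
theorem row (hQ : Sg Q m ε₀) (hm : 4 ≤ m) (h : Sit p q (Cfsg.POmega F ⇑Q)) {X : ℕ}
    (hX : ε₀ = 1 ∧ X = Nat.card F ^ m - 1 ∨ ε₀ = -1 ∧ X = Nat.card F ^ m + 1)
    (hcard : Nat.card (Cfsg.POmega F ⇑Q) ∣ Nat.card F ^ (m * (m - 1)) * X *
      ∏ i ∈ Finset.range (m - 1), (Nat.card F ^ (2 * (i + 1)) - 1)) : False := by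
  haveI := Fintype.ofFinite F
  have hu : IsPrimePow (Nat.card F) := by
    rw [Nat.card_eq_fintype_card]
    exact FiniteField.isPrimePow_card F
  set u := Nat.card F with hudef
  have hu2 := hu.two_le
  have hn : R2.Spec.X1.TD.mm q ∣ Nat.card (Cfsg.POmega F ⇑Q) := h.mm_dvd_card
  have hco : ∀ i, 1 ≤ i → i + 2 ≤ m → Nat.Coprime (R2.Spec.X1.TD.mm q) (u ^ (2 * i) - 1) := fun i hi1 hi =>
    h.coprime_of fun s hs hsn => pow_ne hQ hm h hs hsn hi1 hi
  have hco2 : Nat.Coprime (R2.Spec.X1.TD.mm q) (u ^ 2 - 1) := by simpa using hco 1 le_rfl (by omega)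
  have hcou : Nat.Coprime (R2.Spec.X1.TD.mm q) u := h.coprime_of fun s hs hsn hsu => by
    apply char_ne hQ hm h hs hsn
    obtain ⟨c, hc⟩ := CharP.exists F
    obtain ⟨f, hcp, hf⟩ := FiniteField.card F c
    rw [hudef, Nat.card_eq_fintype_card, hf] at hsu
    have h3 := (Nat.prime_dvd_prime_iff_eq hs hcp).1 (hs.dvd_of_dvd_pow hsu)
    rw [h3]
    exact CharP.cast_eq_zero F c
  have hXd : X ∣ u ^ (2 * m) - 1 := by
    have h3 : u ^ (2 * m) - 1 = (u ^ m + 1) * (u ^ m - 1) := by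
      have := Nat.sq_sub_sq (u ^ m) 1
      rw [one_pow, ← pow_mul, mul_comm m 2] at this
      exact this
    rw [h3]
    rcases hX with ⟨-, rfl⟩ | ⟨-, rfl⟩
    · exact Dvd.intro_left _ rfl
    · exact Dvd.intro _ rfl
  have hfac : u ^ (2 * (m - 1)) - 1 = (u ^ (m - 1) + 1) * (u ^ (m - 1) - 1) := by
    have := Nat.sq_sub_sq (u ^ (m - 1)) 1
    rw [one_pow, ← pow_mul, mul_comm (m - 1) 2] at this
    exact this
  -- Lagrange
  have hn2 : R2.Spec.X1.TD.mm q ∣ X * (u ^ (2 * (m - 1)) - 1) := by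
    have h3 := hn.trans hcard
    rw [mul_assoc] at h3
    have h4 := (hcou.pow_right (m * (m - 1))).dvd_of_dvd_mul_left h3
    obtain ⟨j, hj⟩ : ∃ j, m - 1 = j + 1 := ⟨m - 2, by omega⟩
    rw [hj, Finset.prod_range_succ, ← hj] at h4
    have h5 : Nat.Coprime (R2.Spec.X1.TD.mm q) (∏ i ∈ Finset.range j, (u ^ (2 * (i + 1)) - 1)) :=
      Nat.Coprime.prod_right fun i hi => hco (i + 1) (by omega) (by
        have := Finset.mem_range.1 hi
        omega)
    rw [mul_comm (∏ i ∈ Finset.range j, _), ← mul_assoc] at h4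
    exact h5.dvd_of_dvd_mul_right h4
  obtain ⟨s₀, hs₀, hsn₀, -, -⟩ := h.exists_prime
  -- an element of order a multiple of `N / c`
  have dvdN : ∀ (N c : ℕ) (s : ℕ), s.Prime → s ∣ R2.Spec.X1.TD.mm q → s ∣ N → c ∣ 4 →
      (∃ x : Cfsg.POmega F ⇑Q, N / N.gcd c ∣ orderOf x) → N / N.gcd c ∣ R2.Spec.X1.TD.mm q := by
    rintro N c s hs hsn hsN hc ⟨x, hx⟩
    have hs2 := ne_two' h hsn
    have h3 : s ∣ N / N.gcd c := by
      have h4 : s ∣ N / N.gcd c * N.gcd c := by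
        rw [Nat.div_mul_cancel (Nat.gcd_dvd_left _ _)]
        exact hsN
      rcases hs.dvd_mul.1 h4 with h5 | h5
      · exact h5
      · exfalso
        have h6 : s ∣ 2 ^ 2 := (h5.trans (Nat.gcd_dvd_right _ _)).trans hc
        exact hs2 ((Nat.prime_dvd_prime_iff_eq hs Nat.prime_two).1 (hs.dvd_of_dvd_pow h6))
    exact hx.trans (h.dvd_mm ⟨x, rfl⟩ hs (h3.trans hx) hsn)
  by_cases hA : ∃ s : ℕ, s.Prime ∧ s ∣ R2.Spec.X1.TD.mm q ∧ s ∣ u ^ (2 * (m - 1)) - 1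
  · -- type B
    obtain ⟨s, hs, hsn, hsd⟩ := hA
    have h3 : Nat.Coprime (R2.Spec.X1.TD.mm q) X := h.coprime_of fun t ht htn htX =>
      one_kind hQ hm h ht hs htn hsn (htX.trans hXd) hsd
    have h4 := h3.dvd_of_dvd_mul_left hn2
    rw [hfac] at h4
    rcases Nat.even_or_odd (m - 1) with he | ho
    · obtain ⟨j, hj⟩ := he
      have h5 : Nat.Coprime (R2.Spec.X1.TD.mm q) (u ^ (m - 1) - 1) := by
        have := hco j (by omega) (by omega)
        rwa [show 2 * j = m - 1 by omega] at this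
      have h6 := h5.dvd_of_dvd_mul_right h4
      have h7 := dvdN (u ^ (m - 1) + 1) 2 s₀ hs₀ hsn₀ (hsn₀.trans h6) (by norm_num)
        (exists_small hQ hm (i := m - 1) (by omega) (Or.inr rfl) (elt_tor_minus (by omega) dvd_rfl))
      exact evenB h.par hu (by omega) ⟨j, hj⟩ h6 h7
    · have h5 : Nat.Coprime (R2.Spec.X1.TD.mm q) (u ^ (m - 1) + 1) := h.coprime_of fun t ht htn htd =>
        oddB_plus hu ho hco2 (dvdN (u ^ (m - 1) + 1) 2 t ht htn htd (by norm_num)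
          (exists_small hQ hm (i := m - 1) (by omega) (Or.inr rfl) (elt_tor_minus (by omega) dvd_rfl)))
      have h6 := h5.dvd_of_dvd_mul_left h4
      have h7 := dvdN (u ^ (m - 1) - 1) 2 s₀ hs₀ hsn₀ (hsn₀.trans h6) (by norm_num)
        (exists_small hQ hm (i := m - 1) (by omega) (Or.inl rfl) (elt_tor_plus (by omega) dvd_rfl))
      obtain ⟨x, hx⟩ := exists_small hQ hm (i := m - 1 - 1) (by omega) (Or.inl rfl)
        (elt_tor_plus (F := F) (by omega) dvd_rfl)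
      exact oddB h.par hu (by omega) h6 h7 hco2 (ord_of_dvd h hx)
  · -- type A
    push Not at hA
    have h3 : Nat.Coprime (R2.Spec.X1.TD.mm q) (u ^ (2 * (m - 1)) - 1) := h.coprime_of hA
    have h4 := h3.dvd_of_dvd_mul_right hn2
    obtain ⟨x, hx⟩ := exists_small hQ hm (i := m - 1) (by omega) (Or.inl rfl)
      (elt_tor_plus (F := F) (by omega) dvd_rfl)
    rcases hX with ⟨rfl, rfl⟩ | ⟨rfl, rfl⟩
    · have h7 := dvdN (u ^ m - 1) 4 s₀ hs₀ hsn₀ (hsn₀.trans h4) (by norm_num)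
        (exists_of_elt hQ (by omega) (elt_tor_plus (by omega) dvd_rfl))
      exact plusA h.par hu hm h4 h7 hco2 (ord_of_dvd h hx)
    · have h7 := dvdN (u ^ m + 1) 4 s₀ hs₀ hsn₀ (hsn₀.trans h4) (by norm_num)
        (exists_of_elt hQ (by omega) (elt_tor_minus (by omega) dvd_rfl))
      exact minusA h.par hu hm h4 h7 hco2 (ord_of_dvd h hx)

end

/-- **Row `PΩ⁺(2m, u)` of S3478.** -/
theorem row_omega_plus {p q : ℕ} {F : Type*} [Field F] [Fintype F] {m : ℕ} (hm : 4 ≤ m)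
    (h : Sit p q (Cfsg.POmega F (Cfsg.quadFormPlus m F))) : False := by
  have hc := Cfsg.Agent.S0293.result (F := F) rfl m hm
  rw [← Nat.card_eq_fintype_card] at hc
  rw [← coe_plusForm] at h hc
  exact row (sg_plusForm (F := F) m) hm h (Or.inl ⟨rfl, rfl⟩) (hc ▸ Dvd.intro_left _ rfl)

/-- **Row `PΩ⁻(2m, u)` of S3478.** -/
theorem row_omega_minus {p q : ℕ} {F : Type*} [Field F] [Fintype F] {m : ℕ} {a b : F} (hm : 4 ≤ m)
    (hab : ∀ z₁ z₂ : F, z₁ ^ 2 + a * z₁ * z₂ + b * z₂ ^ 2 = 0 → z₁ = 0 ∧ z₂ = 0)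
    (h : Sit p q (Cfsg.POmega F (Cfsg.quadFormMinus (m - 1) F a b))) : False := by
  have hc := Cfsg.Agent.S0294.result (F := F) rfl m hm a b hab
  rw [← Nat.card_eq_fintype_card] at hc
  have hs := sg_minusForm (F := F) (m - 1) hab
  rw [Nat.sub_add_cancel (by omega)] at hs
  rw [← coe_minusForm] at h hc
  exact row hs hm h (Or.inr ⟨rfl, rfl⟩) (hc ▸ Dvd.intro_left _ rfl)

end Cfsg.Agent.R2.Spec.X1.TRa
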