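import Cfsg.Agent.R2.Spec.X1.TI.Dead

/-!
# `³D₄(q)`, row `PΩ^±(2m, u)`: arithmetic (helper156, statement S3478, task 1849)

`n = mm q`; `n` is prime to `u ^ (2 i) - 1`, `i ≤ m - 2`.
* `plusA` : `n ∣ u ^ m - 1`, `(u ^ m - 1) / gcd 4 ∣ n` : impossible;
* `minusA` : `n ∣ u ^ m + 1`, `(u ^ m + 1) / gcd 4 ∣ n` : impossible;
* `evenB`, `oddB` : the same for `u ^ (m - 1) ∓ 1`.
-/

set_option autoImplicit false

namespace Cfsg.Agent.R2.Spec.X1.TRa

open Cfsg.Agent.R2.Spec.X1.TD Cfsg.Agent.R2.Spec.X1.TI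

theorem eq_mul_gcd {n X c : ℕ} (hc : Nat.Coprime n c) (h1 : n ∣ X) (h2 : X / X.gcd c ∣ n) :
    X = n * X.gcd c := by
  have hg : X.gcd c ∣ X := Nat.gcd_dvd_left _ _
  have h3 : X / X.gcd c * X.gcd c = X := Nat.div_mul_cancel hg
  have h4 : Nat.Coprime n (X.gcd c) := Nat.Coprime.coprime_dvd_right (Nat.gcd_dvd_right _ _) hc
  have h5 : n ∣ X / X.gcd c := h4.dvd_of_dvd_mul_right (by rw [h3]; exact h1)
  have h6 := Nat.dvd_antisymm h5 h2
  rw [← h6] at h3
  exact h3.symm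

theorem gcd_two_pow_sub {u k : ℕ} (hu : 1 ≤ u) (hk : k ≠ 0) :
    ((u ^ k - 1).gcd 2 = 1 ∧ Even u) ∨ ((u ^ k - 1).gcd 2 = 2 ∧ Odd u) := by
  rcases Nat.even_or_odd u with he | ho
  · left
    refine ⟨?_, he⟩
    have h1 : Even (u ^ k) := he.pow_of_ne_zero hk
    have h2 : 1 ≤ u ^ k := Nat.one_le_pow _ _ hu
    have h3 : Odd (u ^ k - 1) := Nat.Even.sub_odd h2 h1 odd_one
    exact Nat.coprime_comm.1 (Nat.coprime_two_left.2 h3)
  · right
    refine ⟨?_, ho⟩
    have h1 : Odd (u ^ k) := ho.pow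
    have h2 : 1 ≤ u ^ k := Nat.one_le_pow _ _ hu
    have h3 : Even (u ^ k - 1) := Nat.Odd.sub_odd h1 odd_one
    exact Nat.gcd_eq_right h3.two_dvd

/-- the number `a` in `dead_plus` -/
theorem half_eq {u k : ℕ} (hu : 1 ≤ u) (hk : k ≠ 0) :
    ∃ c : ℕ, (c = 1 ∨ c = 2 ∧ Odd u) ∧ c * ((u ^ k - 1) / (u ^ k - 1).gcd 2) + 1 = u ^ k := by
  have h2 : 1 ≤ u ^ k := Nat.one_le_pow _ _ hu
  refine ⟨(u ^ k - 1).gcd 2, ?_, ?_⟩
  · rcases gcd_two_pow_sub hu hk with h | h
    · exact Or.inl h.1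
    · exact Or.inr h
  · rw [Nat.mul_div_cancel' (Nat.gcd_dvd_left _ _)]
    omega

variable {p q : ℕ} (h : Par p q)

include h

theorem coprime_four : Nat.Coprime (mm q) 4 := by
  have := mm_odd h
  have h2 : Nat.Coprime (mm q) 2 := (Nat.coprime_two_left.2 this).symm
  exact Nat.Coprime.pow_right 2 h2

theorem coprime_two : Nat.Coprime (mm q) 2 := (Nat.coprime_two_left.2 (mm_odd h)).symm

/-- **Type A, plus.** -/
theorem plusA {u m : ℕ} (hu : IsPrimePow u) (hm : 4 ≤ m) (h1 : mm q ∣ u ^ m - 1)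
    (h2 : (u ^ m - 1) / (u ^ m - 1).gcd 4 ∣ mm q) (hco : Nat.Coprime (mm q) (u ^ 2 - 1))
    (ho : Om p q ((u ^ (m - 1) - 1) / (u ^ (m - 1) - 1).gcd 2)) : False := by
  have hu2 := hu.two_le
  have e := eq_mul_gcd (coprime_four h) h1 h2
  set g := (u ^ m - 1).gcd 4 with hg
  have hg4 : g ∣ 4 := Nat.gcd_dvd_right _ _
  have hpos : 1 ≤ u ^ m := Nat.one_le_pow _ _ (by omega)
  -- divisors of `u ^ m - 1` prime to `n` divide `4`
  have key : ∀ w : ℕ, w ∣ u ^ m - 1 → Nat.Coprime (mm q) w → w ∣ 4 := fun w hw hcw => by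
    rw [e] at hw
    exact (hcw.symm.dvd_of_dvd_mul_left hw).trans hg4
  have hd1 : u - 1 ∣ u ^ 2 - 1 := by simpa using Nat.sub_dvd_pow_sub_pow u 1 2
  have h3 : u - 1 ∣ 4 := key _ (by simpa using Nat.sub_dvd_pow_sub_pow u 1 m) (Nat.Coprime.coprime_dvd_right hd1 hco)
  have h4 : u = 2 ∨ u = 3 ∨ u = 5 := by
    have h5 := Nat.le_of_dvd (by norm_num) h3
    have h6 : u ≤ 5 := by omega
    interval_cases u
    · omega
    · omega
    · exfalso; revert h3; decide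
    · omega
  have hmo : Odd m := by
    by_contra hcon
    rw [Nat.not_odd_iff_even] at hcon
    obtain ⟨j, hj⟩ := hcon
    have h5 : u ^ 2 - 1 ∣ u ^ m - 1 := by
      have := Nat.sub_dvd_pow_sub_pow (u ^ 2) 1 j
      rwa [one_pow, ← pow_mul, show 2 * j = m by omega] at this
    have h6 := key _ h5 hco
    rcases h4 with rfl | rfl | rfl <;> revert h6 <;> decide
  have hg1 : g = u - 1 := by
    obtain ⟨j, hj⟩ := hmo
    rcases h4 with rfl | rfl | rfl
    · have h7 : (2 ^ m - 1).gcd 4 = 1 := by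
        have h8 : 2 ^ m = 2 * 2 ^ (2 * j) := by rw [hj, pow_succ']
        have h9 : Odd (2 ^ m - 1) := by
          rw [Nat.odd_iff]
          omega
        exact Nat.Coprime.pow_right 2 (Nat.coprime_two_left.2 h9).symm
      rw [hg, h7]
    · have h8 : 3 ^ m % 4 = 3 := by
        rw [hj, pow_succ, pow_mul, Nat.mul_mod, Nat.pow_mod]
        norm_num
      have h9 : (3 ^ m - 1) % 4 = 2 := by omega
      rw [hg, Nat.gcd_comm, Nat.gcd_rec, h9]
      decide
    · have h8 : 5 ^ m % 4 = 1 := by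
        rw [Nat.pow_mod]
        norm_num
      have h9 : (5 ^ m - 1) % 4 = 0 := by omega
      rw [hg, Nat.gcd_comm, Nat.gcd_rec, h9]
      decide
  obtain ⟨c, hc, hca⟩ := half_eq (u := u) (k := m - 1) (by omega) (by omega)
  refine dead_plus h hu (k := m) (by omega) hc ?_ hca ho
  rw [← hg1]
  omega

/-- **Type A, minus.** -/
theorem minusA {u m : ℕ} (hu : IsPrimePow u) (hm : 4 ≤ m) (h1 : mm q ∣ u ^ m + 1)
    (h2 : (u ^ m + 1) / (u ^ m + 1).gcd 4 ∣ mm q) (hco : Nat.Coprime (mm q) (u ^ 2 - 1))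
    (ho : Om p q ((u ^ (m - 1) - 1) / (u ^ (m - 1) - 1).gcd 2)) : False := by
  have hu2 := hu.two_le
  have e := eq_mul_gcd (coprime_four h) h1 h2
  set g := (u ^ m + 1).gcd 4 with hg
  have hg4 : g ∣ 4 := Nat.gcd_dvd_right _ _
  rcases Nat.even_or_odd m with hme | hmo
  · obtain ⟨j, hj⟩ := hme
    rcases Nat.even_or_odd u with hue | huo
    · have h3 : g = 1 := by
        have h4 : Odd (u ^ m + 1) := (hue.pow_of_ne_zero (by omega)).add_one
        exact Nat.Coprime.pow_right 2 (Nat.coprime_two_left.2 h4).symm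
      rw [h3, mul_one] at e
      exact ne_pow_add_one h hu (m := m) (by omega) e.symm
    · have h3 : g = 2 := by
        have h8 : u ^ m % 4 = 1 := by
          have h9 : u % 4 = 1 ∨ u % 4 = 3 := by
            have := Nat.odd_iff.1 huo
            omega
          rw [show m = 2 * j by omega, pow_mul, Nat.pow_mod, Nat.pow_mod u 2 4]
          rcases h9 with h9 | h9 <;> rw [h9] <;> norm_num
        have h9 : (u ^ m + 1) % 4 = 2 := by omega
        rw [hg, Nat.gcd_comm, Nat.gcd_rec, h9]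
        decide
      rw [h3] at e
      apply ne_half h (u ^ j)
      rw [← pow_mul, show j * 2 = m by omega]
      omega
  · have h3 : u + 1 ∣ u ^ m + 1 := by simpa using hmo.nat_add_dvd_pow_add_pow u 1
    have hd1 : u + 1 ∣ u ^ 2 - 1 := by
      have := Nat.sq_sub_sq u 1
      rw [one_pow] at this
      rw [this]
      exact Dvd.intro _ rfl
    have h4 : u + 1 ∣ g := by
      rw [e] at h3
      exact (Nat.Coprime.coprime_dvd_right hd1 hco).symm.dvd_of_dvd_mul_left h3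
    have h5 := h4.trans hg4
    have h6 : u = 3 := by
      have h7 := Nat.le_of_dvd (by norm_num) h5
      have h8 : u ≤ 3 := by omega
      interval_cases u
      · exfalso; revert h5; decide
      · rfl
    subst h6
    have h7 : g = 4 := Nat.dvd_antisymm hg4 h4
    obtain ⟨c, hc, hca⟩ := half_eq (u := 3) (k := m - 1) (by omega) (by omega)
    have h8 := dead_minus h hu (k := m) (by omega) hmo hc (by rw [e, h7]) hca ho
    have h9 := h.hq
    have : 9 ≤ q ^ 2 := by nlinarith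
    omega

/-- **Type B, `m - 1 = k` even.** -/
theorem evenB {u k : ℕ} (hu : IsPrimePow u) (hk : k ≠ 0) (hke : Even k) (h1 : mm q ∣ u ^ k + 1)
    (h2 : (u ^ k + 1) / (u ^ k + 1).gcd 2 ∣ mm q) : False := by
  have hu2 := hu.two_le
  have e := eq_mul_gcd (coprime_two h) h1 h2
  set g := (u ^ k + 1).gcd 2 with hg
  have hg2 : g ∣ 2 := Nat.gcd_dvd_right _ _
  obtain ⟨j, hj⟩ := hke
  rcases (Nat.dvd_prime Nat.prime_two).1 hg2 with h3 | h3
  · rw [h3, mul_one] at e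
    exact ne_pow_add_one h hu (m := k) hk e.symm
  · rw [h3] at e
    apply ne_half h (u ^ j)
    rw [← pow_mul, show j * 2 = k by omega]
    omega

omit h in
/-- **Type B, `m - 1 = k` odd**: no prime divisor of `u ^ k + 1`. -/
theorem oddB_plus {u k : ℕ} (hu : IsPrimePow u) (hko : Odd k) (hco : Nat.Coprime (mm q) (u ^ 2 - 1)) :
    ¬ (u ^ k + 1) / (u ^ k + 1).gcd 2 ∣ mm q := by
  intro h2
  have hu2 := hu.two_le
  have h3 : u + 1 ∣ u ^ k + 1 := by simpa using hko.nat_add_dvd_pow_add_pow u 1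
  have hd1 : u + 1 ∣ u ^ 2 - 1 := by
    have := Nat.sq_sub_sq u 1
    rw [one_pow] at this
    rw [this]
    exact Dvd.intro _ rfl
  have h4 : u + 1 ∣ mm q * (u ^ k + 1).gcd 2 := by
    have h5 : (u ^ k + 1) / (u ^ k + 1).gcd 2 * (u ^ k + 1).gcd 2 ∣ mm q * (u ^ k + 1).gcd 2 :=
      Nat.mul_dvd_mul_right h2 _
    rw [Nat.div_mul_cancel (Nat.gcd_dvd_left (u ^ k + 1) 2)] at h5
    exact h3.trans h5
  have h5 := (Nat.Coprime.coprime_dvd_right hd1 hco).symm.dvd_of_dvd_mul_left h4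
  have h6 := Nat.le_of_dvd (by norm_num) (h5.trans (Nat.gcd_dvd_right _ _))
  omega

/-- **Type B, `m - 1 = k` odd.** -/
theorem oddB {u k : ℕ} (hu : IsPrimePow u) (hk : 3 ≤ k) (h1 : mm q ∣ u ^ k - 1)
    (h2 : (u ^ k - 1) / (u ^ k - 1).gcd 2 ∣ mm q) (hco : Nat.Coprime (mm q) (u ^ 2 - 1))
    (ho : Om p q ((u ^ (k - 1) - 1) / (u ^ (k - 1) - 1).gcd 2)) : False := by
  have hu2 := hu.two_le
  have e := eq_mul_gcd (coprime_two h) h1 h2
  have hpos : 1 ≤ u ^ k := Nat.one_le_pow _ _ (by omega)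
  have hd1 : u - 1 ∣ u ^ 2 - 1 := by simpa using Nat.sub_dvd_pow_sub_pow u 1 2
  have h3 : u - 1 ∣ (u ^ k - 1).gcd 2 := by
    have h4 : u - 1 ∣ u ^ k - 1 := by simpa using Nat.sub_dvd_pow_sub_pow u 1 k
    rw [e] at h4
    exact (Nat.Coprime.coprime_dvd_right hd1 hco).symm.dvd_of_dvd_mul_left h4
  have h5 := Nat.le_of_dvd (by norm_num) (h3.trans (Nat.gcd_dvd_right _ _))
  have h6 : (u ^ k - 1).gcd 2 = u - 1 := by
    rcases gcd_two_pow_sub (u := u) (k := k) (by omega) (by omega) with ⟨h7, h8⟩ | ⟨h7, h8⟩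
    · have h9 := Nat.le_of_dvd (by norm_num) (h7 ▸ h3)
      omega
    · have h9 := Nat.odd_iff.1 h8
      rw [h7]
      omega
  obtain ⟨c, hc, hca⟩ := half_eq (u := u) (k := k - 1) (by omega) (by omega)
  refine dead_plus h hu (k := k) (by omega) hc ?_ hca ho
  rw [← h6]
  omega

end Cfsg.Agent.R2.Spec.X1.TRa
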